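import Cfsg.Agent.Mrg.Omega.KL.TwoV.Fr
import Cfsg.Agent.Mrg.Omega.KL.StarR.GrpR
import Cfsg.Agent.Mrg.Omega.KL.Star.ViaRed


/-!
# KL* for two vectors over a group `Y` (bb #27002, #27170): the frame for one class with at least two `S`-orbits of blocks

* `FrY T Y V Z` : helper789's `Fr`, a group `Y` which contains the `T`-minimal groups `R ≤ C_G(Z i)` moving `Ω₁Z(T)`, and
  LEMMA E for the elements of `Y` only, with `J_i = T ∩ C(V (i+1))`;
* **`FrY.ginR`** : `Out T V Z i X B` gives `StarR.GInR` for `C_i` on `X`; **`FrY.out_false`**;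
* **`FrY.ex_false`**, `FrY.exists_mx` : some maximal `A` of `O₂(C_G(Z 0) ∩ C_G(Z 1))` moves `V i`, both `i`.
-/

set_option autoImplicit false
set_option linter.unusedSectionVars false

namespace Cfsg.Agent.Omega.KL.TwoV

open Subgroup Cfsg Cfsg.Agent.Omega.MinPar
open Cfsg.Agent.ZN (o2 zc)
open Cfsg.Agent.Omega.OM.KTwo (ne_add_one eq_add_one add_one_add_one le_normalizer_V le_V exists_mul_of_mem_sup)
open Cfsg.Agent.MinSimple.MinParabolic (IsMinPar)
open Cfsg.Agent.Omega.NoFF.Basic (conj_conj mem_conj conj_le_iff comm_symm comm_mono Z_le_V V_le)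
open Cfsg.Agent.ZN.ChoiceSit (Syl exists_syl syl_conj o2_le_syl syl_not_dvd)
open Cfsg.Agent.MinSimple.VModule (mem_zc zc_le normalizer_le_normalizer_zc le_o2
  o2_isPGroup o2_le zc_le_centralizer le_centralizer_zc le_normalizer_o2 oddGen oddGen_def)
open Cfsg.Agent.Omega.TC.LemZ (card_eq le_norm_of norm_cent norm_inf)
open Cfsg.Agent.Omega.KL.TwoS (Mx relIndex_anti relIndex_mono)
open Cfsg.Agent.Omega.KL.TwoZ (CC QQ NH NN WW UU HH norm_o2_of)
open Cfsg.Agent.Omega.KL.StarR (GInR InpR)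
open Cfsg.Agent.Omega.NO3b.EndX (RedP)
open scoped Pointwise

universe u

variable {G : Type u} [Group G]

/-- `J_i = T ∩ C(V (i+1))` -/
abbrev JJ (T : Subgroup G) (V : Fin 2 → Subgroup G) (i : Fin 2) : Subgroup G :=
  T ⊓ centralizer (V (i + 1) : Set G)

/-- **the frame over `Y`** -/
structure FrY [Finite G] (T Y : Subgroup G) (V Z : Fin 2 → Subgroup G) : Prop extends Fr T V Z where
  nY : ∀ i, centralizer (Z i : Set G) ⊓ normalizer (T : Set G) ≤ Y
  /-- a minimal parabolic of `C_G(Z i)` not in `C_G(Ω₁Z(T))` lies in `Y` and normalises the `V k` -/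
  RY : ∀ (i : Fin 2) (R : Subgroup G), IsMinPar T R → R ≤ centralizer (Z i : Set G) → ¬ R ≤ centralizer (zc T : Set G) →
    R ≤ Y ∧ ∀ k, R ≤ normalizer (V k : Set G)
  bad : ∀ (i : Fin 2) (d : G), d ∈ centralizer (Z i : Set G) → d ∈ Y → d ∈ normalizer (V 0 : Set G) →
    d ∈ normalizer (V 1 : Set G) → d ∈ normalizer (JJ T V i : Set G) → Odd (orderOf d) →
    (∀ j ∈ JJ T V i, ∀ w ∈ V i,
      (j * d * j⁻¹ * d⁻¹) * (d * w * d⁻¹ * w⁻¹) = (d * w * d⁻¹ * w⁻¹) * (j * d * j⁻¹ * d⁻¹)) →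
    d ∈ centralizer (V i : Set G)

/-- `eq_or_add` of `Inp.lean` -/
theorem eq_or_add_one (i k : Fin 2) : k = i ∨ k = i + 1 := by
  revert i k
  decide

namespace FrY

variable [Finite G] {T Y : Subgroup G} {V Z : Fin 2 → Subgroup G} (D : FrY T Y V Z)

omit [Finite G] in
theorem norm_JJ {T : Subgroup G} {V : Fin 2 → Subgroup G} {n : G} (i : Fin 2) (hT : n ∈ normalizer (T : Set G))
    (hV : n ∈ normalizer (V (i + 1) : Set G)) : n ∈ normalizer (JJ T V i : Set G) :=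
  (norm_inf inf_le_left (norm_cent inf_le_right) :
    normalizer (T : Set G) ⊓ normalizer (V (i + 1) : Set G) ≤ normalizer (JJ T V i : Set G)) ⟨hT, hV⟩

/-- `J_i ≤ O₂(R)` and `J_i` is normal in `R`, or the elements of odd order of `R` centralise `V (i+1)` -/
theorem dich {R : Subgroup G} (hT : IsPGroup 2 T) (hR : IsMinPar T R) (ho : ¬ 2 ∣ T.relIndex R) (i : Fin 2)
    (hV : R ≤ normalizer (V (i + 1) : Set G)) :
    (JJ T V i ≤ o2 R ∧ R ≤ normalizer (JJ T V i : Set G)) ∨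
      ∀ g ∈ R, Odd (orderOf g) → g ∈ centralizer (V (i + 1) : Set G) := by
  have hn : R ≤ normalizer ((R ⊓ centralizer (V (i + 1) : Set G) : Subgroup G) : Set G) :=
    norm_inf Subgroup.le_normalizer (norm_cent hV)
  rcases hR.sup_eq_or_inf_le hT ho inf_le_left hn with h | h
  · right
    intro g hg hgo
    have h1 : oddGen R ≤ R ⊓ centralizer (V (i + 1) : Set G) :=
      MinSimple.VModule.oddGen_le_of_sup hn (by rw [h]) hR.le inf_le_left hT
    have h2 : g ∈ oddGen R := by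
      rw [oddGen_def]
      exact subset_closure ⟨hg, hgo⟩
    exact (h1 h2).2
  · left
    have hJ : JJ T V i ≤ o2 R := fun x hx => h ⟨hx.1, hR.le hx.1, hx.2⟩
    refine ⟨hJ, ?_⟩
    have e : JJ T V i = o2 R ⊓ centralizer (V (i + 1) : Set G) := by
      refine le_antisymm (le_inf hJ inf_le_right) (le_inf (inf_le_left.trans ?_) inf_le_right)
      exact MinSimple.VModule.o2_le_of_sylow hT ho
    rw [e]
    exact norm_inf (le_normalizer_o2 R) (norm_cent hV)

include D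

theorem ginR (hML : ML.Final.MLK.{u, u}) {i : Fin 2} {X B : Subgroup G} (hK : IsKGroup (CC Z i))
    (O : Out T V Z i X B) :
    GInR (CC Z i) T B (JJ T V i)
      (CC Z i ⊓ normalizer (V 0 : Set G) ⊓ normalizer (V 1 : Set G) ⊓ normalizer (JJ T V i : Set G) ⊓ Y) X
      (V (i + 1) ⊓ zc T) (Z (i + 1)) (V i) := by
  have hTC := D.T_le_C
  have hBT : B ≤ T := O.BO.trans D.O_le_T
  have hBC : B ≤ CC Z i := hBT.trans (hTC i)
  have hZN : Z (i + 1) ≤ NN Z i := le_V _ _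
  have hV01 : ∀ (g : G), g ∈ normalizer (V 0 : Set G) → g ∈ normalizer (V 1 : Set G) → ∀ k, g ∈ normalizer (V k : Set G) := by
    intro g h0 h1 k
    rcases Fin.exists_fin_two.1 ⟨k, rfl⟩ with h | h
    · rw [h]; exact h0
    · rw [h]; exact h1
  have hQV : ∀ k, CC Z i ⊓ normalizer (V 0 : Set G) ⊓ normalizer (V 1 : Set G) ⊓ normalizer (JJ T V i : Set G) ⊓ Y ≤
      normalizer (V k : Set G) := fun k g hg => hV01 g hg.1.1.1.2 hg.1.1.2 k
  have hTz : T ≤ centralizer (zc T : Set G) := le_centralizer_zc T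
  have hTZ : T ≤ centralizer ((V (i + 1) ⊓ zc T : Subgroup G) : Set G) := hTz.trans (centralizer_le inf_le_right)
  have hcVC : centralizer (V i : Set G) ≤ CC Z i := D.cent_V_le i
  have hBV : B ≤ o2 (centralizer (V i : Set G)) := (le_inf O.BH O.BV).trans (FlagNO.o2_inf_sub le_sup_left)
  refine ⟨O.CX, O.sqX, hTC i, D.T_isPGroup, syl_not_dvd (D.syl i), inf_le_left.trans ((D.V_le_N i).trans O.NX),
    hZN.trans O.NX, O.VX, hTZ, hTC (i + 1), ?_, ?_, ?_, ?_, inf_le_left, hBT, ?_, ?_, Or.inl ?_, O.sqB, ?_, ?_, ?_, ?_,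
    ?_, ?_, hK⟩
  · -- NZ
    exact norm_inf ((D.nT i).trans inf_le_right) (inf_le_right.trans (normalizer_le_normalizer_zc T))
  · -- NQ
    rintro n ⟨hn, hnT⟩
    have h1 := D.nT i ⟨hn, hnT⟩
    have h2 : ∀ k, n ∈ normalizer (V k : Set G) := by
      intro k
      rcases eq_or_add_one i k with h | h
      · rw [h]; exact h1.1
      · rw [h]; exact h1.2
    exact ⟨⟨⟨⟨hn, h2 0⟩, h2 1⟩, norm_JJ i hnT h1.2⟩, D.nY i ⟨hn, hnT⟩⟩
  · exact inf_le_right.trans (hQV i)
  · exact inf_le_right.trans fun g hg => hg.1.2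
  · -- par
    intro P hP hPC
    by_cases hc : P ≤ centralizer (zc T : Set G)
    · left
      exact hc.trans (centralizer_le inf_le_right)
    · obtain ⟨hPY, hV⟩ := D.RY i P hP hPC hc
      have hsP : Syl T P := ⟨hP.le, D.T_isPGroup, fun R hR hR2 hTR => (D.syl i).2.2 R (hR.trans hPC) hR2 hTR⟩
      rcases dich D.T_isPGroup hP (syl_not_dvd hsP) i (hV (i + 1)) with ⟨hJ, hJn⟩ | hk
      · right; right
        refine ⟨?_, hJ, le_inf (le_inf (le_inf (le_inf hPC (hV 0)) (hV 1)) hJn) hPY⟩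
        refine (le_inf hBV (hBT.trans hP.le)).trans (le_o2 inf_le_right ((o2_isPGroup _).to_le inf_le_left) ?_)
        exact norm_inf (fun g hg => norm_o2_of (norm_cent (hV i) hg)) le_normalizer
      · left
        have h2 : oddGen P ≤ centralizer ((V (i + 1) ⊓ zc T : Subgroup G) : Set G) := by
          rw [oddGen_def, closure_le]
          rintro g ⟨hg, hgo⟩
          exact centralizer_le inf_le_left (hk g hg hgo)
        rw [← Star.Core.oddGen_sup hP.le (syl_not_dvd hsP)]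
        exact sup_le h2 hTZ
  · -- sep
    intro g _ hgQ _ z hz y hy h
    have hgz : g * z * g⁻¹ ∈ V (i + 1) := (mem_normalizer_iff.1 (hQV (i + 1) hgQ) z).1 hz.1
    have hgy : g * y * g⁻¹ ∈ V i := (mem_normalizer_iff.1 (hQV i hgQ) y).1 hy
    have h1 : (g * z * g⁻¹) * (g * y * g⁻¹) = z * y := by
      calc (g * z * g⁻¹) * (g * y * g⁻¹) = g * (z * y) * g⁻¹ := by group
        _ = z * y := by rw [h, mul_inv_cancel_right]
    have h2 : z⁻¹ * (g * z * g⁻¹) = y * (g * y * g⁻¹)⁻¹ := by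
      calc z⁻¹ * (g * z * g⁻¹) = z⁻¹ * ((g * z * g⁻¹) * (g * y * g⁻¹)) * (g * y * g⁻¹)⁻¹ := by group
        _ = y * (g * y * g⁻¹)⁻¹ := by rw [h1]; group
    have h3 : z⁻¹ * (g * z * g⁻¹) = 1 := by
      refine D.disV i _ ?_ (mul_mem (inv_mem hz.1) hgz)
      rw [h2]
      exact mul_mem hy (inv_mem hgy)
    calc g * z = z * (z⁻¹ * (g * z * g⁻¹)) * g := by group
      _ = z * g := by rw [h3, mul_one]
  · -- hb
    intro d hd hdQ hdo hc
    exact D.bad i d hd hdQ.2 (hQV 0 hdQ) (hQV 1 hdQ) hdQ.1.2 hdo hc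
  · -- AZ
    refine (le_inf O.BO (le_inf hBC (hBT.trans hTZ))).trans (FlagNO.o2_inf_sub ?_)
    rintro c ⟨hc, hcz⟩
    refine Fr.mem_D hc (centralizer_le (le_inf (D.ZV _) (D.Zz _)) hcz)
  · -- AY
    have e : CC Z i ⊓ centralizer (V i : Set G) ⊔ T = HH T V i := by
      rw [inf_eq_right.2 hcVC]
    rw [e]
    exact O.BH
  · exact O.ker
  · intro h
    exact O.mv (h.trans (centralizer_le O.NX))
  · intro A hAB
    have h1 := D.no_N hML hK (hAB.trans O.BO) (fun b hb => O.sqB b (hAB hb))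
    have h2 : (centralizer (X : Set G)).relIndex A ≤ (centralizer (NN Z i : Set G)).relIndex A := by
      rw [← inf_relIndex_left A (centralizer (NN Z i : Set G)), ← inf_relIndex_left A (centralizer (X : Set G))]
      exact relIndex_anti (le_inf inf_le_left ((inf_le_inf_right _ hAB).trans O.ker))
    exact h2.trans (h1.trans (relIndex_mono O.NX))
  · exact O.ex.trans (relIndex_anti (centralizer_le O.NX))

/-- **EX + KL* for vectors** -/
theorem out_false (hML : ML.Final.MLK.{u, u}) (hR : RedP.{u, u}) (hE : ML.Ex.Two.Ext.{u, u}) {i : Fin 2}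
    {X B : Subgroup G} (hK : IsKGroup (CC Z i)) (O : Out T V Z i X B) : False := by
  obtain ⟨H, N, _, _, _, _, _, T', A', J', Q', Z₁, Y', h⟩ := (D.ginR hML hK O).inpR
  exact h.false_of hML hR hE

/-- **a maximal elementary abelian subgroup of `O₂(C_G(Z 0) ∩ C_G(Z 1))` lies in `Q_i` and moves `V i`** -/
theorem ex_false (hML : ML.Final.MLK.{u, u}) (hR : RedP.{u, u}) (hE : ML.Ex.Two.Ext.{u, u})
    (hK : ∀ i, IsKGroup (CC Z i)) :
    ∀ i, ¬ Fail V Z i ∧ ¬ V i ≤ NN Z i ∧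
      ∃ A : Subgroup G, Mx (o2 (DD Z)) A ∧ A ≤ QQ Z i ∧ ¬ A ≤ centralizer (V i : Set G) := by
  rcases D.toFr.ex hML hK with ⟨i, X, B, O⟩ | h
  · exact (D.out_false hML hR hE (hK i) O).elim
  · exact h

/-- **the same with `𝒜(O)`, `O = O₂(C_G(Ω₁Z(T)))`** -/
theorem exists_mx (hML : ML.Final.MLK.{u, u}) (hR : RedP.{u, u}) (hE : ML.Ex.Two.Ext.{u, u})
    (hK : ∀ i, IsKGroup (CC Z i)) (i : Fin 2) :
    ∃ A : Subgroup G, Mx (o2 (centralizer (zc T : Set G))) A ∧ Mx (o2 (DD Z)) A ∧ A ≤ QQ Z i ∧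
      ¬ A ≤ centralizer (V i : Set G) := by
  obtain ⟨-, -, A, h1, h2, h3⟩ := D.ex_false hML hR hE hK i
  exact ⟨A, D.toFr.mx_sub hML (hK 0) h1, h1, h2, h3⟩

end FrY

end Cfsg.Agent.Omega.KL.TwoV
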